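import Groth.Agent.CiLib.Basic
import Mathlib.RingTheory.Nullstellensatz
import Mathlib.RingTheory.Ideal.KrullsHeightTheorem

/-! An algebraically closed field is `C_0` for systems. -/

namespace Groth.Agent.CiLib

open MvPolynomial

variable {k : Type*} [Field k]

theorem le_height_origin (n : ℕ) :
    (n : ℕ∞) ≤ (RingHom.ker (constantCoeff : MvPolynomial (Fin n) k →+* k)).height := by
  let φ : ℕ → (MvPolynomial (Fin n) k →ₐ[k] MvPolynomial (Fin n) k) := fun j =>
    aeval fun i : Fin n => if (i : ℕ) < j then 0 else X i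
  let P : ℕ → Ideal (MvPolynomial (Fin n) k) := fun j => RingHom.ker (φ j)
  have hP : ∀ j, (P j).IsPrime := fun j => RingHom.ker_isPrime _
  have hlt : ∀ j < n, P j < P (j + 1) := fun j hj => by
    refine lt_of_le_not_ge (fun p hp => ?_) fun h => ?_
    · have e : φ (j + 1) = (φ (j + 1)).comp (φ j) := MvPolynomial.algHom_ext fun i => by
        simp only [φ, AlgHom.comp_apply, aeval_X]
        by_cases hi : (i : ℕ) < j
        · rw [if_pos hi, if_pos (by omega), map_zero]
        · rw [if_neg hi, aeval_X]
      rw [RingHom.mem_ker] at hp ⊢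
      rw [e, AlgHom.comp_apply, hp, map_zero]
    · have h1 : X (⟨j, hj⟩ : Fin n) ∈ P (j + 1) := by simp [P, φ, RingHom.mem_ker]
      have h2 := h h1
      simp [P, φ, RingHom.mem_ker] at h2
  have hn : ∀ j ≤ n, (j : ℕ∞) ≤ (P j).height := by
    intro j
    induction j with
    | zero => intro _; simp
    | succ j ih =>
      intro hj
      haveI := hP j
      haveI := hP (j + 1)
      rw [Nat.cast_succ]
      exact (add_le_add (ih (by omega)) le_rfl).trans (Ideal.height_add_one_le_of_lt_of_isPrime (hlt j (by omega)))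
  refine (hn n le_rfl).trans (Ideal.height_mono fun p hp => ?_)
  have e : (φ n : MvPolynomial (Fin n) k →+* MvPolynomial (Fin n) k) = C.comp constantCoeff := by
    refine MvPolynomial.ringHom_ext (fun r => by simp [φ]) fun i => ?_
    simp [φ, i.isLt]
  rw [RingHom.mem_ker] at hp ⊢
  have := congrArg (fun ψ : MvPolynomial (Fin n) k →+* MvPolynomial (Fin n) k => ψ p) e
  simp only [RingHom.coe_coe, RingHom.comp_apply] at this
  rw [hp] at this
  exact C_eq_zero.mp this.symm

theorem isCi_zero [IsAlgClosed k] : Curves.IsCi k 0 := by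
  classical
  intro r n f d hf hd hlt
  by_contra hno
  push Not at hno
  let I := Ideal.span (Set.range f)
  let M : Ideal (MvPolynomial (Fin n) k) := RingHom.ker constantCoeff
  haveI : M.IsMaximal := RingHom.ker_isMaximal_of_surjective _ fun c => ⟨C c, constantCoeff_C _ c⟩
  have hIM : I ≤ M := Ideal.span_le.mpr (by
    rintro _ ⟨ρ, rfl⟩
    rw [SetLike.mem_coe, RingHom.mem_ker, constantCoeff_eq]
    exact (hf ρ).coeff_eq_zero (by simpa using (hd ρ).ne))
  have hz : zeroLocus k I ⊆ {0} := fun a ha => by
    by_contra h0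
    obtain ⟨ρ, hρ⟩ := hno a h0
    exact hρ (by simpa using ha (f ρ) (Ideal.subset_span ⟨ρ, rfl⟩))
  have hmin : M ∈ I.minimalPrimes := by
    refine ⟨⟨inferInstance, hIM⟩, fun Q hQ _ => ?_⟩
    have hrad : I.radical = vanishingIdeal k (zeroLocus k I) := (vanishingIdeal_zeroLocus_eq_radical I).symm
    refine le_trans ?_ (hQ.1.radical_le_iff.mpr hQ.2)
    rw [hrad]
    refine fun p hp => vanishingIdeal_anti_mono hz ((mem_vanishingIdeal_singleton_iff 0 p).mpr ?_)
    rw [RingHom.mem_ker] at hp
    rw [aeval_zero, hp, map_zero]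
  have h1 := Ideal.height_le_card_of_mem_minimalPrimes_span (Set.finite_range f) hmin
  have h2 : (Set.range f).ncard ≤ r := by
    rw [← Set.image_univ]
    exact (Set.ncard_image_le).trans (by simp [Set.ncard_univ])
  have h3 := (le_height_origin (k := k) n).trans (h1.trans (Nat.cast_le.mpr h2))
  simp at hlt
  have := Nat.cast_le.mp h3
  omega

end Groth.Agent.CiLib
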