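import Groth.Agent.CiLib.Basic
import Groth.Agent.CSA.ReducedNorm

/-! `C_1` fields: finite extensions, no non-trivial division algebras. -/

namespace Groth.Agent.CiLib

open MvPolynomial

universe u v

variable {K : Type u} [Field K]

theorem det_isHomogeneous {R σ ι : Type*} [CommRing R] [Fintype ι] [DecidableEq ι]
    (M : Matrix ι ι (MvPolynomial σ R)) {d : ℕ} (h : ∀ i j, (M i j).IsHomogeneous d) :
    M.det.IsHomogeneous (Fintype.card ι * d) := by
  rw [Matrix.det_apply]
  refine IsHomogeneous.sum _ _ _ fun s _ => ?_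
  have := IsHomogeneous.prod Finset.univ (fun i => M (s i) i) (fun _ => d) fun i _ => h _ _
  rw [Finset.sum_const, Finset.card_univ, smul_eq_mul] at this
  rcases Int.units_eq_one_or (Equiv.Perm.sign s) with e | e <;> rw [e]
  · simpa using this
  · simpa [Units.smul_def] using this.neg

theorem isCr_one_of_finite {L : Type v} [Field L] [Algebra K L] [FiniteDimensional K L]
    (h : Curves.IsCr K 1) : Curves.IsCr L 1 := by
  classical
  intro n d f hf hd hlt
  rw [pow_one] at hlt
  let b := Module.finBasis K L
  let m := Module.finrank K L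
  let σ := Fin n × Fin m
  let G : Fin m → MvPolynomial σ K := fun j => coordMap (b.coord j) (substComb b f)
  let M : Matrix (Fin m) (Fin m) (MvPolynomial σ K) :=
    Matrix.of fun p q => ∑ j, C (Algebra.leftMulMatrix b (b j) p q) * G j
  have hM : M.det.IsHomogeneous (m * d) := by
    simpa using det_isHomogeneous M (d := d) fun p q => by
      simp only [M, Matrix.of_apply]
      exact IsHomogeneous.sum _ _ _ fun j _ =>
        (coordMap_isHomogeneous _ (substComb_isHomogeneous b hf)).C_mul _
  let e := Fintype.equivFin σ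
  obtain ⟨a, ha, hz⟩ := h _ (m * d) (rename e M.det) hM.rename_isHomogeneous (Nat.mul_pos Module.finrank_pos hd) (by
    rw [pow_one]; simp only [σ, Fintype.card_prod, Fintype.card_fin]; rw [mul_comm n]
    exact Nat.mul_lt_mul_of_pos_left hlt Module.finrank_pos)
  let y : σ → K := a ∘ e
  refine ⟨fun i => ∑ j, b j * algebraMap K L (y (i, j)), fun h0 => ha (funext fun p => ?_), ?_⟩
  · have h1 := congrFun h0 (e.symm p).1
    simp only [mul_comm (b _), ← Algebra.smul_def, Pi.zero_apply] at h1
    simpa [y] using Fintype.linearIndependent_iff.mp b.linearIndependent _ h1 (e.symm p).2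
  · by_contra hne
    have hcoord : ∀ j, eval y (G j) = b.coord j (eval (fun i => ∑ j, b j * algebraMap K L (y (i, j))) f) :=
      fun j => by rw [eval_coordMap, eval_substComb]
    have hev : (eval y).mapMatrix M = Algebra.leftMulMatrix b (eval (fun i => ∑ j, b j * algebraMap K L (y (i, j))) f) := by
      conv_rhs => rw [← b.sum_repr (eval (fun i => ∑ j, b j * algebraMap K L (y (i, j))) f)]
      ext p q
      simp only [RingHom.mapMatrix_apply, Matrix.map_apply, M, Matrix.of_apply, map_sum, map_mul, eval_C,
        map_smul, Matrix.sum_apply, Matrix.smul_apply, hcoord, smul_eq_mul, Module.Basis.coord_apply]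
      exact Finset.sum_congr rfl fun _ _ => mul_comm _ _
    rw [eval_rename] at hz
    change eval y M.det = 0 at hz
    rw [RingHom.map_det, hev, ← Algebra.norm_eq_matrix_det, Algebra.norm_eq_zero_iff] at hz
    exact hne hz

theorem finrank_eq_one_of_isCr_one (h : Curves.IsCr K 1) (D : Type v) [DivisionRing D] [Algebra K D]
    [Algebra.IsCentral K D] [FiniteDimensional K D] : Module.finrank K D = 1 := by
  classical
  haveI : CSA.IsCSA K D := {}
  have hsq := CSA.deg_sq K D
  by_contra hne
  have hn1 : 1 < CSA.deg K D := by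
    have := CSA.deg_pos K D
    by_contra h1
    rw [show CSA.deg K D = 1 by omega, one_pow] at hsq
    exact hne hsq.symm
  obtain ⟨L, _, _, _, _, ⟨f⟩⟩ := CSA.exists_galois_rep K D hsq
  let n := CSA.deg K D
  let b := Module.finBasis K D
  let N := Module.finrank K D
  let M : Matrix (Fin n) (Fin n) (MvPolynomial (Fin N) L) := Matrix.of fun p q => ∑ i, C (f (b i) p q) * X i
  have hM : M.det.IsHomogeneous n := by
    simpa using det_isHomogeneous M (d := 1) fun p q => by
      simp only [M, Matrix.of_apply]
      exact IsHomogeneous.sum _ _ _ fun i _ => (isHomogeneous_X L i).C_mul _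
  obtain ⟨φ, hφ⟩ : ∃ φ : L →ₗ[K] K, φ 1 = 1 := by
    obtain ⟨φ, hφ⟩ := LinearMap.exists_leftInverse_of_injective (Algebra.linearMap K L)
      (LinearMap.ker_eq_bot.mpr (algebraMap K L).injective)
    exact ⟨φ, by simpa using LinearMap.congr_fun hφ 1⟩
  obtain ⟨a, ha, hz⟩ := h _ n (coordMap φ M.det) (coordMap_isHomogeneous φ hM) (by omega)
    (by rw [pow_one]; exact lt_of_lt_of_eq (by nlinarith) hsq)
  let z : D := ∑ i, a i • b i
  have hz0 : z ≠ 0 := fun h0 => ha (funext fun i => Fintype.linearIndependent_iff.mp b.linearIndependent a h0 i)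
  have hev : (eval fun i => algebraMap K L (a i)).mapMatrix M = f z := by
    have hfz : f z = ∑ i, a i • f (b i) := by simp [z]
    ext p q
    rw [hfz]
    simp only [RingHom.mapMatrix_apply, Matrix.map_apply, M, Matrix.of_apply, map_sum, map_mul, eval_C,
      eval_X, Matrix.sum_apply, Matrix.smul_apply]
    exact Finset.sum_congr rfl fun i _ => by rw [Algebra.smul_def, mul_comm]
  have hdet := CSA.rep_det' f (by simpa using hsq) z
  rw [eval_coordMap, RingHom.map_det, hev, hdet, Algebra.algebraMap_eq_smul_one, map_smul, hφ, smul_eq_mul,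
    mul_one] at hz
  exact (CSA.isUnit_iff_rnorm_ne_zero (k := K) z).1 (IsUnit.mk0 z hz0) hz

end Groth.Agent.CiLib
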