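import Groth.Prelude.Def_Curves
import Mathlib.LinearAlgebra.FreeModule.Finite.Basic
import Mathlib.FieldTheory.IntermediateField.Adjoin.Basic
import Mathlib.FieldTheory.RatFunc.AsPolynomial
import Mathlib.RingTheory.AlgebraicIndependent.AlgebraicClosure
import Mathlib.RingTheory.AlgebraicIndependent.Transcendental
import Mathlib.RingTheory.AlgebraicIndependent.TranscendenceBasis
import Mathlib.Algebra.MvPolynomial.Equiv

/-! The property `C_i` for systems of forms: restriction of scalars, algebraic extensions, rational functions. -/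

namespace Groth.Agent.CiLib

open MvPolynomial
open scoped Polynomial

universe u v w

variable {K : Type u} [Field K]

/-- `C_i` with arbitrary finite index types. -/
theorem exists_zero {i : ℕ} (h : Curves.IsCi K i) {ι : Type v} {σ : Type w} [Fintype ι] [Fintype σ]
    (f : ι → MvPolynomial σ K) (d : ι → ℕ) (hf : ∀ ρ, (f ρ).IsHomogeneous (d ρ)) (hd : ∀ ρ, 0 < d ρ)
    (hlt : ∑ ρ, d ρ ^ i < Fintype.card σ) : ∃ a : σ → K, a ≠ 0 ∧ ∀ ρ, eval a (f ρ) = 0 := by
  let e := Fintype.equivFin ι
  let e' := Fintype.equivFin σ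
  obtain ⟨a, ha, hz⟩ := h _ _ (fun ρ => rename e' (f (e.symm ρ))) (fun ρ => d (e.symm ρ))
    (fun ρ => (hf _).rename_isHomogeneous) (fun ρ => hd _) (by rwa [e.symm.sum_comp (fun ρ => d ρ ^ i)])
  refine ⟨a ∘ e', fun h0 => ha (funext fun x => ?_), fun ρ => ?_⟩
  · simpa using congrFun h0 (e'.symm x)
  · simpa [eval_rename] using hz (e ρ)

section Coord

variable {A : Type v} [CommRing A] [Algebra K A] {σ : Type w}

/-- Apply a linear functional to the coefficients. -/
noncomputable def coordMap (φ : A →ₗ[K] K) (G : MvPolynomial σ A) : MvPolynomial σ K :=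
  ∑ s ∈ G.support, monomial s (φ (coeff s G))

theorem coordMap_isHomogeneous (φ : A →ₗ[K] K) {G : MvPolynomial σ A} {d : ℕ} (hG : G.IsHomogeneous d) :
    (coordMap φ G).IsHomogeneous d := by
  refine IsHomogeneous.sum _ _ _ fun s hs => isHomogeneous_monomial _ ?_
  have := hG (mem_support_iff.mp hs)
  rwa [Finsupp.weight_apply, Finsupp.sum, show (∑ i ∈ s.support, s i • (1 : σ → ℕ) i) = ∑ i ∈ s.support, s i by
    simp] at this

theorem eval_coordMap (φ : A →ₗ[K] K) (G : MvPolynomial σ A) (x : σ → K) :
    eval x (coordMap φ G) = φ (eval (fun i => algebraMap K A (x i)) G) := by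
  rw [coordMap, map_sum, MvPolynomial.eval_eq, map_sum]
  refine Finset.sum_congr rfl fun s _ => ?_
  rw [eval_monomial, Finsupp.prod]
  simp only [← map_pow, ← map_prod]
  rw [← Algebra.commutes, ← Algebra.smul_def, map_smul, smul_eq_mul, mul_comm]

/-- Substitute a general combination of the `b j` for every variable. -/
noncomputable def substComb {n : Type w} {J : Type*} [Fintype J] (b : J → A) (G : MvPolynomial n A) :
    MvPolynomial (n × J) A :=
  aeval (fun i => ∑ j, C (b j) * X (i, j)) G

theorem substComb_isHomogeneous {n : Type w} {J : Type*} [Fintype J] (b : J → A) {G : MvPolynomial n A} {d : ℕ}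
    (hG : G.IsHomogeneous d) : (substComb b G).IsHomogeneous d := by
  have := hG.aeval (S := A) (fun i => ∑ j, C (b j) * X (i, j))
    (fun i => IsHomogeneous.sum _ _ 1 fun j _ => (isHomogeneous_X A (i, j)).C_mul (b j))
  rwa [one_mul] at this

theorem eval_substComb {n : Type w} {J : Type*} [Fintype J] (b : J → A) (G : MvPolynomial n A)
    (y : n × J → A) : eval y (substComb b G) = eval (fun i => ∑ j, b j * y (i, j)) G := by
  rw [substComb, ← coe_aeval_eq_eval, ← coe_aeval_eq_eval, RingHom.coe_coe, RingHom.coe_coe, ← AlgHom.comp_apply,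
    comp_aeval]
  simp

end Coord

/-- `C_i` passes to finite extensions. -/
theorem isCi_of_finite {L : Type v} [Field L] [Algebra K L] [FiniteDimensional K L] {i : ℕ}
    (h : Curves.IsCi K i) : Curves.IsCi L i := by
  intro r n f d hf hd hlt
  let b := Module.finBasis K L
  let F : Fin r × Fin (Module.finrank K L) → MvPolynomial (Fin n × Fin (Module.finrank K L)) K :=
    fun p => coordMap (b.coord p.2) (substComb b (f p.1))
  obtain ⟨a, ha, hz⟩ := exists_zero h F (fun p => d p.1)
    (fun p => coordMap_isHomogeneous _ (substComb_isHomogeneous b (hf p.1))) (fun p => hd p.1) (by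
      rw [Fintype.sum_prod_type]
      simp only [Finset.sum_const, Finset.card_univ, Fintype.card_fin, smul_eq_mul, Fintype.card_prod,
        ← Finset.mul_sum]
      rw [mul_comm n]
      exact Nat.mul_lt_mul_of_pos_left hlt Module.finrank_pos)
  refine ⟨fun i => ∑ j, b j * algebraMap K L (a (i, j)), fun h0 => ha (funext fun p => ?_), fun ρ => ?_⟩
  · have h1 := congrFun h0 p.1
    simp only [mul_comm (b _), ← Algebra.smul_def, Pi.zero_apply] at h1
    exact Fintype.linearIndependent_iff.mp b.linearIndependent _ h1 p.2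
  · refine b.ext_elem fun j => ?_
    have := hz (ρ, j)
    rw [eval_coordMap, eval_substComb] at this
    simpa using this

/-- `C_i` passes to algebraic extensions. -/
theorem isCi_of_isAlgebraic {L : Type v} [Field L] [Algebra K L] [Algebra.IsAlgebraic K L] {i : ℕ}
    (h : Curves.IsCi K i) : Curves.IsCi L i := by
  classical
  intro r n f d hf hd hlt
  let S : Finset L := Finset.univ.biUnion fun ρ => (f ρ).support.image fun s => coeff s (f ρ)
  let L₀ := IntermediateField.adjoin K (S : Set L)
  haveI : FiniteDimensional K L₀ :=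
    IntermediateField.finiteDimensional_adjoin fun x _ => Algebra.IsIntegral.isIntegral x
  have hmem : ∀ ρ, ∀ s ∈ (f ρ).support, coeff s (f ρ) ∈ L₀ := fun ρ s hs =>
    IntermediateField.subset_adjoin K _ (Finset.mem_coe.mpr (Finset.mem_biUnion.mpr
      ⟨ρ, Finset.mem_univ _, Finset.mem_image_of_mem _ hs⟩))
  let g : Fin r → MvPolynomial (Fin n) L₀ := fun ρ =>
    ∑ s ∈ (f ρ).support.attach, monomial s.1 ⟨coeff s.1 (f ρ), hmem ρ s.1 s.2⟩
  have hmap : ∀ ρ, map (algebraMap L₀ L) (g ρ) = f ρ := fun ρ => by
    simp only [g, map_sum, map_monomial, IntermediateField.algebraMap_apply]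
    rw [Finset.sum_attach _ fun s => monomial s (coeff s (f ρ)), ← as_sum]
  have hg : ∀ ρ, (g ρ).IsHomogeneous (d ρ) := fun ρ s hs => hf ρ (by
    rw [← hmap ρ, coeff_map]
    simpa using hs)
  obtain ⟨a, ha, hz⟩ := isCi_of_finite (L := L₀) h r n g d hg hd hlt
  refine ⟨fun i => algebraMap L₀ L (a i), fun h0 => ha (funext fun i => ?_), fun ρ => ?_⟩
  · exact (map_eq_zero (algebraMap L₀ L)).mp (congrFun h0 i)
  · rw [← hmap ρ, eval_map, show (fun i => algebraMap L₀ L (a i)) = ⇑(algebraMap L₀ L) ∘ a from rfl, ← eval₂_comp, hz ρ, map_zero]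

/-- Transfer along an isomorphism. -/
theorem isCi_of_ringEquiv {L : Type v} [Field L] (e : K ≃+* L) {i : ℕ} (h : Curves.IsCi K i) :
    Curves.IsCi L i := by
  letI := e.toRingHom.toAlgebra
  haveI : Algebra.IsAlgebraic K L := ⟨fun x => by
    obtain ⟨y, rfl⟩ := e.surjective x
    exact isAlgebraic_algebraMap y⟩
  exact isCi_of_isAlgebraic h

/-- `C_i` for `K` gives `C_(i+1)` for `K(t)`. -/
theorem isCi_succ_ratFunc {i : ℕ} (h : Curves.IsCi K i) : Curves.IsCi (RatFunc K) (i + 1) := by
  classical
  intro r n f d hf hd hlt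
  let S : Finset (RatFunc K) := Finset.univ.biUnion fun ρ => (f ρ).support.image fun s => coeff s (f ρ)
  obtain ⟨D, hD⟩ := IsLocalization.exist_integer_multiples_of_finset (nonZeroDivisors K[X]) S
  have hc : ∀ ρ, ∀ s : Fin n →₀ ℕ, ∃ c : K[X],
      algebraMap K[X] (RatFunc K) c = algebraMap K[X] (RatFunc K) D * coeff s (f ρ) := fun ρ s => by
    by_cases hs : s ∈ (f ρ).support
    · obtain ⟨c, hc⟩ := hD _ (Finset.mem_biUnion.mpr ⟨ρ, Finset.mem_univ _, Finset.mem_image_of_mem _ hs⟩)
      exact ⟨c, by rw [hc, Algebra.smul_def]⟩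
    · exact ⟨0, by rw [notMem_support_iff.mp hs, mul_zero, map_zero]⟩
  choose c hc using hc
  let g : Fin r → MvPolynomial (Fin n) K[X] := fun ρ => ∑ s ∈ (f ρ).support, monomial s (c ρ s)
  have hg : ∀ ρ, (g ρ).IsHomogeneous (d ρ) := fun ρ => IsHomogeneous.sum _ _ _ fun s hs =>
    isHomogeneous_monomial _ (by
      have := hf ρ (mem_support_iff.mp hs)
      rwa [Finsupp.weight_apply, Finsupp.sum, show (∑ i ∈ s.support, s i • (1 : Fin n → ℕ) i) = ∑ i ∈ s.support, s i by
        simp] at this)
  let e : ℕ := Finset.univ.sup fun ρ => (f ρ).support.sup fun s => (c ρ s).natDegree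
  let s₀ : ℕ := ∑ ρ, (e + 1) * d ρ ^ i
  let b : Fin (s₀ + 1) → K[X] := fun j => Polynomial.X ^ (j : ℕ)
  let ι := Σ ρ : Fin r, Fin (d ρ * s₀ + e + 1)
  let F : ι → MvPolynomial (Fin n × Fin (s₀ + 1)) K := fun p =>
    coordMap (Polynomial.lcoeff K (p.2 : ℕ)) (substComb b (g p.1))
  obtain ⟨a, ha, hz⟩ := exists_zero h F (fun p => d p.1)
    (fun p => coordMap_isHomogeneous _ (substComb_isHomogeneous b (hg p.1))) (fun p => hd p.1) (by
      rw [Fintype.sum_sigma]
      simp only [Finset.sum_const, Finset.card_univ, Fintype.card_fin, smul_eq_mul, Fintype.card_prod]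
      have h1 : ∑ ρ, (d ρ * s₀ + e + 1) * d ρ ^ i = s₀ * (∑ ρ, d ρ ^ (i + 1)) + s₀ := by
        have h2 : ∑ ρ, (d ρ * s₀ + e + 1) * d ρ ^ i = ∑ ρ, (s₀ * d ρ ^ (i + 1) + (e + 1) * d ρ ^ i) :=
          Finset.sum_congr rfl fun ρ _ => by ring
        rw [h2, Finset.sum_add_distrib, ← Finset.mul_sum]
      rw [h1]
      have h3 := Nat.mul_le_mul_left s₀ (Nat.succ_le_of_lt hlt)
      have h4 : 0 < n := lt_of_le_of_lt (Nat.zero_le _) hlt
      rw [Nat.mul_succ] at h3
      rw [Nat.mul_succ, mul_comm n]
      omega)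
  let q : Fin n → K[X] := fun i => ∑ j, b j * Polynomial.C (a (i, j))
  have hqdeg : ∀ i, (q i).natDegree ≤ s₀ := fun i => Polynomial.natDegree_sum_le_of_forall_le _ _ fun j _ => by
    refine Polynomial.natDegree_mul_le.trans ?_
    simp only [b, Polynomial.natDegree_X_pow, Polynomial.natDegree_C, add_zero]
    omega
  have hval : ∀ ρ, eval q (g ρ) = 0 := fun ρ => by
    refine Polynomial.ext fun l => ?_
    rw [Polynomial.coeff_zero]
    by_cases hl : l < d ρ * s₀ + e + 1
    · have := hz ⟨ρ, ⟨l, hl⟩⟩
      rw [eval_coordMap, eval_substComb] at this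
      simpa [q, Polynomial.C_eq_algebraMap] using this
    · refine Polynomial.coeff_eq_zero_of_natDegree_lt (lt_of_le_of_lt ?_ (not_lt.mp hl))
      simp only [g, map_sum]
      refine Polynomial.natDegree_sum_le_of_forall_le _ _ fun s hs => ?_
      rw [eval_monomial]
      refine Polynomial.natDegree_mul_le.trans (le_of_le_of_eq (Nat.add_le_add ?_ ?_) (add_comm e (d ρ * s₀)))
      · exact le_trans (Finset.le_sup (f := fun s => (c ρ s).natDegree) hs)
          (Finset.le_sup (f := fun ρ => (f ρ).support.sup fun s => (c ρ s).natDegree) (Finset.mem_univ ρ))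
      · rw [Finsupp.prod]
        refine (Polynomial.natDegree_prod_le _ _).trans ?_
        have hw := hf ρ (mem_support_iff.mp hs)
        rw [Finsupp.weight_apply, Finsupp.sum] at hw
        have hw' : d ρ * s₀ = ∑ i ∈ s.support, s i * s₀ := by
          rw [← hw, Finset.sum_mul]; simp
        rw [hw']
        exact Finset.sum_le_sum fun i _ => Polynomial.natDegree_pow_le.trans (Nat.mul_le_mul_left _ (hqdeg i))
  refine ⟨fun i => algebraMap K[X] (RatFunc K) (q i), fun h0 => ha (funext fun p => ?_), fun ρ => ?_⟩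
  · have h1 : q p.1 = 0 := IsFractionRing.injective K[X] (RatFunc K) (by simpa using congrFun h0 p.1)
    have h2 := congrArg (fun P : K[X] => P.coeff (p.2 : ℕ)) h1
    simp only [q, b, Polynomial.finsetSum_coeff, Polynomial.coeff_X_pow_mul', Polynomial.coeff_zero] at h2
    rw [Finset.sum_eq_single p.2 (fun j _ hj => ?_) (by simp), if_pos le_rfl, Nat.sub_self, Polynomial.coeff_C_zero] at h2
    · exact h2
    · split_ifs with hle
      · exact Polynomial.coeff_C_ne_zero (by
          intro h0'
          exact hj (Fin.ext (le_antisymm hle (Nat.sub_eq_zero_iff_le.mp h0'))))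
      · rfl
  · have hmap : map (algebraMap K[X] (RatFunc K)) (g ρ) = MvPolynomial.C (algebraMap K[X] (RatFunc K) D) * f ρ := by
      conv_rhs => rw [as_sum (f ρ), Finset.mul_sum]
      simp only [g, map_sum, map_monomial, hc, C_mul_monomial]
    have h1 := congrArg (eval fun i => algebraMap K[X] (RatFunc K) (q i)) hmap
    rw [eval_map, map_mul, eval_C, show eval₂ (algebraMap K[X] (RatFunc K)) (fun i => algebraMap K[X] (RatFunc K) (q i)) (g ρ) = algebraMap K[X] (RatFunc K) (eval q (g ρ)) from (eval₂_comp _ _ _).symm, hval, map_zero] at h1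
    refine (mul_eq_zero.mp h1.symm).resolve_left fun h2 => ?_
    exact nonZeroDivisors.ne_zero D.2 (IsFractionRing.injective K[X] (RatFunc K) (by rw [h2, map_zero]))

/-- The Tsen–Lang theorem along a transcendence basis. -/
theorem isCi_add {k : Type u} [Field k] {L : Type v} [Field L] [Algebra k L] {t : ℕ} {x : Fin t → L}
    (hx : IsTranscendenceBasis k x) {m : ℕ} (hk : Curves.IsCi k m) : Curves.IsCi L (m + t) := by
  have step : ∀ j ≤ t, Curves.IsCi (IntermediateField.adjoin k (x '' {i | (i : ℕ) < j})) (m + j) := by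
    intro j
    induction j with
    | zero =>
      intro _
      rw [show x '' {i | (i : ℕ) < 0} = ∅ by simp, IntermediateField.adjoin_empty]
      exact isCi_of_isAlgebraic hk
    | succ j ih =>
      intro hj
      let F := IntermediateField.adjoin k (x '' {i | (i : ℕ) < j})
      let i₀ : Fin t := ⟨j, by omega⟩
      have htr : Transcendental F (x i₀) :=
        IntermediateField.transcendental_adjoin_iff.mpr (hx.1.transcendental_adjoin (by simp [i₀]))
      have h1 : Curves.IsCi (IntermediateField.adjoin F ({x i₀} : Set L)) (m + j + 1) :=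
        isCi_of_ringEquiv (RatFunc.algEquivOfTranscendental (x i₀) htr).toRingEquiv (isCi_succ_ratFunc (ih (by omega)))
      have h2 : (IntermediateField.adjoin F ({x i₀} : Set L)).restrictScalars k =
          IntermediateField.adjoin k (x '' {i | (i : ℕ) < j + 1}) := by
        rw [IntermediateField.adjoin_adjoin_left]
        congr 1
        rw [← Set.image_singleton, ← Set.image_union]
        congr 1
        ext a
        simp only [Set.mem_union, Set.mem_setOf_eq, Set.mem_singleton_iff, i₀, Fin.ext_iff]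
        omega
      rw [← h2]
      exact h1
  have htop := step t le_rfl
  rw [show x '' {i | (i : ℕ) < t} = Set.range x by simp [Set.image_univ]] at htop
  haveI := hx.isAlgebraic_field
  exact isCi_of_isAlgebraic htop

end Groth.Agent.CiLib
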